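import Cfsg.Agent.H865.L5.Base
import Cfsg.Agent.OrdDiv.Table
import Cfsg.Agent.S0000

/-!
# S5923, piece M6 (helper173): the simple subgroups of `E₈(3)` of order divisible by `372000 = |L₃(5)|`

Order engine of helper24: the order divides `|E₈(3)|`, hence the group is `L₃(5)`, `Th` or `E₈(3)`.
-/

set_option autoImplicit false
set_option linter.unusedSectionVars false
set_option maxRecDepth 1000000

namespace Cfsg.Agent.H173.L5

open Subgroup Cfsg Cfsg.Lie Cfsg.Agent.OrdDiv Cfsg.Agent.H865.L5

/-- `|E₈(3)|` -/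
def nE : ℕ := 18830052912953932311099032439972660332140886784940152038522449391826616580150109878711243949982163694448626420940800000

/-- its factorization -/
def lE : List (ℕ × ℕ) := [(2, 30), (3, 120), (5, 5), (7, 4), (11, 4), (13, 4), (19, 1), (31, 1), (37, 1), (41, 2),
  (61, 2), (73, 2), (271, 1), (547, 1), (757, 1), (1093, 1), (1181, 1), (4561, 1), (6481, 1)]

theorem valid_E : valid lE nE = true := by decide +kernel

theorem cand_E : ∀ g ∈ (cands lE nE).filter (fun g => (fun n => Nat.beq (n % 372000) 0) (ordN g)),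
    g = .psl 3 5 ∨ g = .e8 3 ∨ g = .th := by decide +kernel

theorem card_G3 : Nat.card G3 = nE := by
  rw [OrdDiv.table.{0}.e8 (ZMod 3) 3 (ZMod.card 3)]
  decide +kernel

/-- M6 : the orders -/
theorem card_cases {T : Subgroup G3} (hs : IsSimpleGroup T) (hd : 372000 ∣ Nat.card T) (hT : T ≠ ⊤) :
    Nat.card T = 372000 ∨ Cfsg.Spor.IsoTh T := by
  have hpos : 0 < Nat.card G3 := by rw [card_G3]; decide +kernel
  have hfin : Finite G3 := Nat.finite_of_card_ne_zero hpos.ne'
  have hdvd : Nat.card T ∣ nE := by
    rw [← card_G3]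
    exact Subgroup.card_subgroup_dvd_card T
  have hna : ¬ ∀ a b : T, a * b = b * a := by
    intro h
    have h1 : (Nat.card T).Prime := by
      let _ : CommGroup T := { (inferInstance : Group T) with mul_comm := h }
      exact IsSimpleGroup.prime_card
    have h2 : 2 ∣ Nat.card T := (by norm_num : 2 ∣ 372000).trans hd
    have h3 : 3 ∣ Nat.card T := (by norm_num : 3 ∣ 372000).trans hd
    have h4 := (Nat.prime_dvd_prime_iff_eq Nat.prime_two h1).1 h2
    have h5 := (Nat.prime_dvd_prime_iff_eq Nat.prime_three h1).1 h3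
    omega
  obtain ⟨g, hg, hR, ho⟩ := exists_good OrdDiv.table.{0} (S0000.result : IsKnownSimple' T) hna valid_E hdvd
  have hg2 : g ∈ (cands lE nE).filter (fun g => (fun n => Nat.beq (n % 372000) 0) (ordN g)) := by
    refine List.mem_filter.2 ⟨hg, ?_⟩
    rw [← ho]
    rw [Nat.beq_eq]
    exact Nat.mod_eq_zero_of_dvd hd
  rcases cand_E g hg2 with rfl | rfl | rfl
  · left
    exact ho.trans (by decide +kernel)
  · exfalso
    apply hT
    apply Subgroup.eq_top_of_card_eq
    rw [card_G3, ho]
    decide +kernel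
  · right
    exact hR

end Cfsg.Agent.H173.L5
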